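import Mathlib

/-!
# Points of finite type separated schemes in restricted products
-/

set_option autoImplicit false
set_option linter.style.haveILetI false
set_option linter.unusedSectionVars false
set_option maxHeartbeats 400000
set_option backward.isDefEq.respectTransparency.types false
universe u

open CategoryTheory CategoryTheory.Limits AlgebraicGeometry

noncomputable section

namespace Groth.Agent.AdPts23

variable {R A : Type u} [CommRing R] [CommRing A] {I : Type u} {B : I → Type u} [∀ i, Field (B i)]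
  (χ : ∀ i, A →+* B i) (φ : R →+* A) {X : Scheme.{u}} (p : X ⟶ Spec (CommRingCat.of R))

/-- Points are detected on the components. -/
theorem point_ext [IsSeparated p] (hχ : ∀ a, (∀ i, χ i a = 0) → a = 0) (f g : Spec (CommRingCat.of A) ⟶ X)
    (hf : f ≫ p = g ≫ p) (h : ∀ i, Spec.map (CommRingCat.ofHom (χ i)) ≫ f = Spec.map (CommRingCat.ofHom (χ i)) ≫ g) :
    f = g := by
  let F : Over (Spec (CommRingCat.of R)) := Over.mk (f ≫ p)
  let Y : Over (Spec (CommRingCat.of R)) := Over.mk p
  haveI : IsClosedImmersion (pullback.fst (pullback.lift f g hf) (pullback.diagonal p)) :=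
    MorphismProperty.pullback_fst _ _ inferInstance
  obtain ⟨J, e, he⟩ := IsClosedImmersion.Spec_iff.mp
    (inferInstance : IsClosedImmersion (pullback.fst (pullback.lift f g hf) (pullback.diagonal p)))
  have hJ : J = ⊥ := le_bot_iff.1 fun x hx => by
    refine (Submodule.mem_bot A).2 (hχ x fun i => ?_)
    let q := pullback.lift (f := pullback.lift f g hf) (g := pullback.diagonal p) (Spec.map (CommRingCat.ofHom (χ i)))
      (Spec.map (CommRingCat.ofHom (χ i)) ≫ f) (by
        refine pullback.hom_ext ?_ ?_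
        · simp
          erw [pullback.lift_fst]
        · simp
          erw [pullback.lift_snd]
          exact (h i).symm)
    have h1 : (q ≫ e.hom) ≫ Spec.map (CommRingCat.ofHom (Ideal.Quotient.mk J)) = Spec.map (CommRingCat.ofHom (χ i)) := by
      rw [Category.assoc, ← he]
      exact pullback.lift_fst _ _ _
    rw [← Spec.map_preimage (q ≫ e.hom), ← Spec.map_comp] at h1
    have h2 := ConcreteCategory.congr_hom (Spec.map_injective h1) x
    change (Spec.preimage (q ≫ e.hom)) (Ideal.Quotient.mk J x) = χ i x at h2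
    exact h2.symm.trans ((congrArg (Spec.preimage (q ≫ e.hom)) (Ideal.Quotient.eq_zero_iff_mem.2 hx)).trans (map_zero _))
  subst hJ
  haveI : IsIso (CommRingCat.ofHom (Ideal.Quotient.mk (⊥ : Ideal A))) :=
    (RingEquiv.quotientBot A).symm.toCommRingCatIso.isIso_hom
  haveI : IsIso (pullback.fst (pullback.lift f g hf) (pullback.diagonal p)) := by rw [he]; infer_instance
  have h1 := congrArg (· ≫ pullback.fst p p) (pullback.condition (f := pullback.lift f g hf) (g := pullback.diagonal p))
  have h2 := congrArg (· ≫ pullback.snd p p) (pullback.condition (f := pullback.lift f g hf) (g := pullback.diagonal p))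
  simp at h1 h2
  rw [← cancel_epi (pullback.fst (pullback.lift f g hf) (pullback.diagonal p))]
  have h3 := h1.trans h2.symm
  erw [pullback.lift_fst, pullback.lift_snd] at h3
  exact h3

variable (O : ∀ i, ValuationSubring (B i)) (S : Set I) (ψ : ∀ i, i ∉ S → R →+* O i)

/-- Almost every component of a point is integral. -/
theorem exists_integral [LocallyOfFiniteType p] (hS : S.Finite)
    (hψ : ∀ i (hi : i ∉ S), (O i).subtype.comp (ψ i hi) = (χ i).comp φ)
    (hA : ∀ a, {i | χ i a ∉ O i}.Finite) (f : Spec (CommRingCat.of A) ⟶ X)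
    (hf : f ≫ p = Spec.map (CommRingCat.ofHom φ)) :
    {i | ¬ ∃ (hi : i ∉ S) (z : Spec (CommRingCat.of (O i)) ⟶ X), z ≫ p = Spec.map (CommRingCat.ofHom (ψ i hi)) ∧
      Spec.map (CommRingCat.ofHom (O i).subtype) ≫ z = Spec.map (CommRingCat.ofHom (χ i)) ≫ f}.Finite := by
  classical
  choose U hU hxU using fun x : PrimeSpectrum A =>
    let 𝒰 := X.affineCover; (⟨(𝒰.f (𝒰.idx (f x))).opensRange, isAffineOpen_opensRange _, 𝒰.covers (f x)⟩ :
      ∃ U : X.Opens, IsAffineOpen U ∧ f x ∈ U)
  choose g hxg hgU using fun x : PrimeSpectrum A =>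
    PrimeSpectrum.isTopologicalBasis_basic_opens.exists_subset_of_mem_open (hxU x) (f ⁻¹ᵁ U x).2
  choose a ha using hxg
  obtain ⟨t, ht⟩ := CompactSpace.isCompact_univ.elim_finite_subcover
    (fun x : PrimeSpectrum A => (PrimeSpectrum.basicOpen (a x) : Set (PrimeSpectrum A)))
    (fun x => (PrimeSpectrum.basicOpen (a x)).2) (fun x _ => Set.mem_iUnion.2 ⟨x, by
      show x ∈ (fun r => (PrimeSpectrum.basicOpen r : Set _)) (a x)
      show x ∈ (PrimeSpectrum.basicOpen (a x) : Set (PrimeSpectrum A))
      have h0 := (hgU x).1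
      rw [← ha x] at h0
      exact h0⟩)
  obtain ⟨c, hc⟩ : ∃ c : PrimeSpectrum A → A, ∑ x ∈ t, c x * a x = 1 := by
    have htop : Ideal.span (a '' t) = ⊤ := by
      rw [← PrimeSpectrum.zeroLocus_empty_iff_eq_top, PrimeSpectrum.zeroLocus_span, Set.eq_empty_iff_forall_notMem]
      intro y hy
      obtain ⟨x, hx, hyx⟩ := Set.mem_iUnion₂.1 (ht (Set.mem_univ y))
      exact hyx (hy ⟨x, hx, rfl⟩)
    have := (Ideal.eq_top_iff_one _).1 htop
    exact (Submodule.mem_span_image_finset_iff_exists_fun' A).1 this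
  have hD : ∀ x, Set.range (Spec.map (CommRingCat.ofHom (algebraMap A (Localization.Away (a x)))) ≫ f) ⊆ U x := by
    intro x
    rintro _ ⟨y, rfl⟩
    refine (hgU x).2 ?_
    rw [← ha x]
    exact (PrimeSpectrum.localization_away_comap_range _ (a x)).subset ⟨y, rfl⟩
  let iU : ∀ x, Spec Γ(X, U x) ⟶ X := fun x => (hU x).fromSpec
  let τ : ∀ x, Γ(X, U x) ⟶ CommRingCat.of (Localization.Away (a x)) := fun x =>
    Spec.preimage (IsOpenImmersion.lift (iU x) _ (by rw [(hU x).range_fromSpec]; exact hD x))
  have hτ : ∀ x, Spec.map (τ x) ≫ iU x = Spec.map (CommRingCat.ofHom (algebraMap A (Localization.Away (a x)))) ≫ f := by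
    intro x
    rw [Spec.map_preimage, IsOpenImmersion.lift_fac]
  let σ : ∀ x, CommRingCat.of R ⟶ Γ(X, U x) := fun x => Spec.preimage (iU x ≫ p)
  have hσ : ∀ x, (σ x).hom.FiniteType := fun x =>
    (HasRingHomProperty.Spec_iff (P := @LocallyOfFiniteType)).1 (by
      rw [Spec.map_preimage]; infer_instance)
  choose s hs using fun x => (by
    letI := (σ x).hom.toAlgebra
    exact (hσ x).1 : ∃ s : Finset Γ(X, U x), letI := (σ x).hom.toAlgebra; Algebra.adjoin R (s : Set Γ(X, U x)) = ⊤)
  choose n num hnum using fun (x : PrimeSpectrum A) (e : Γ(X, U x)) => IsLocalization.Away.surj (a x) (τ x e)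
  let bad : Set I := S ∪ (⋃ x ∈ t, {i | χ i (a x) ∉ O i} ∪ {i | χ i (c x) ∉ O i} ∪ ⋃ e ∈ s x, {i | χ i (num x e) ∉ O i})
  refine Set.Finite.subset (hS.union (Set.Finite.biUnion t.finite_toSet fun x _ =>
    ((hA _).union (hA _)).union (Set.Finite.biUnion (s x).finite_toSet fun e _ => hA _)) : bad.Finite) fun i hi => ?_
  by_contra hb
  simp only [bad, Set.mem_union, Set.mem_iUnion, Set.mem_setOf_eq, not_or, not_exists, not_not] at hb
  obtain ⟨hiS, hb⟩ := hb
  obtain ⟨x, hxt, hux⟩ : ∃ x ∈ t, ¬ (O i).valuation (χ i (a x)) < 1 := by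
    by_contra! hall
    have hs1 : (O i).valuation (χ i (∑ x ∈ t, c x * a x)) < 1 := by
      rw [map_sum]
      refine (O i).valuation.map_sum_lt one_ne_zero fun x hx => ?_
      rw [map_mul, map_mul]
      exact mul_lt_one_of_nonneg_of_lt_one_right ((ValuationSubring.valuation_le_one_iff _ _).2 (hb x hx).1.2) zero_le (hall x hx)
    simp [hc] at hs1
  have hle := ((ValuationSubring.valuation_le_one_iff _ _).2 (hb x hxt).1.1)
  have hv1 : (O i).valuation (χ i (a x)) = 1 := le_antisymm hle (not_lt.1 hux)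
  have hne : χ i (a x) ≠ 0 := fun h => by simp [h] at hv1
  let L : Localization.Away (a x) →+* B i := IsLocalization.Away.lift (a x) (g := χ i) hne.isUnit
  have hLσ : ∀ r, L (τ x (σ x r)) = χ i (φ r) := fun r => by
    have h1 : σ x ≫ τ x = CommRingCat.ofHom φ ≫ CommRingCat.ofHom (algebraMap A (Localization.Away (a x))) := by
      apply Spec.map_injective
      rw [Spec.map_comp, Spec.map_comp, show Spec.map (σ x) = iU x ≫ p from Spec.map_preimage _, ← Category.assoc,
        hτ x, Category.assoc, hf]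
    show L ((σ x ≫ τ x) r) = _
    rw [h1]
    exact IsLocalization.Away.lift_eq (a x) _ (φ r)
  have hint : ∀ e, L (τ x e) ∈ O i := by
    letI := (σ x).hom.toAlgebra
    intro e
    have he : e ∈ Algebra.adjoin R (s x : Set Γ(X, U x)) := by rw [hs x]; trivial
    induction he using Algebra.adjoin_induction with
    | mem e he =>
      have h1 := congrArg L (hnum x e)
      rw [map_mul, map_pow, IsLocalization.Away.lift_eq, IsLocalization.Away.lift_eq] at h1
      rw [← ValuationSubring.valuation_le_one_iff]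
      have h2 := congrArg (O i).valuation h1
      rw [map_mul, map_pow, hv1, one_pow, mul_one] at h2
      rw [h2]
      exact (ValuationSubring.valuation_le_one_iff _ _).2 ((hb x hxt).2 e he)
    | algebraMap r =>
      show L (τ x (σ x r)) ∈ O i
      rw [hLσ, ← RingHom.comp_apply, ← hψ i hiS]
      exact (ψ i hiS r).2
    | add _ _ _ _ h1 h2 => rw [map_add, map_add]; exact add_mem h1 h2
    | mul _ _ _ _ h1 h2 => rw [map_mul, map_mul]; exact mul_mem h1 h2
  let η : Γ(X, U x) →+* O i := (L.comp (τ x).hom).codRestrict (O i).toSubring hint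
  refine hi ⟨hiS, Spec.map (CommRingCat.ofHom η) ≫ iU x, ?_, ?_⟩
  · rw [Category.assoc, ← Spec.map_preimage (iU x ≫ p), ← Spec.map_comp]
    refine congrArg Spec.map (CommRingCat.hom_ext (RingHom.ext fun r => Subtype.ext ?_))
    exact (hLσ r).trans (congrArg (fun t : R →+* B i => t r) (hψ i hiS)).symm
  · rw [← Category.assoc, ← Spec.map_comp]
    have h1 : CommRingCat.ofHom η ≫ CommRingCat.ofHom (O i).subtype = τ x ≫ CommRingCat.ofHom L :=
      CommRingCat.hom_ext (RingHom.ext fun e => rfl)
    rw [h1, Spec.map_comp, Category.assoc, hτ, ← Category.assoc, ← Spec.map_comp]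
    refine congrArg (fun q => Spec.map q ≫ f) (CommRingCat.hom_ext (RingHom.ext fun r => ?_))
    exact IsLocalization.Away.lift_eq (a x) hne.isUnit r

/-- A family of points, integral outside a finite set, glues. -/
theorem exists_glue [CompactSpace X] {T : I → CommRingCat.{u}} [∀ i, IsLocalRing (T i)] (inc : ∀ i, T i ⟶ CommRingCat.of (B i))
    (str : ∀ i, CommRingCat.of R ⟶ T i) (j : CommRingCat.of (Π i, T i) ⟶ CommRingCat.of A)
    (hj : ∀ i, j ≫ CommRingCat.ofHom (χ i) = CommRingCat.ofHom (Pi.evalRingHom (fun i => (T i : Type u)) i) ≫ inc i)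
    (hstr : ∀ r, j (fun i => str i r) = φ r)
    (z : ∀ i, Spec (T i) ⟶ X) (hz : ∀ i, z i ≫ p = Spec.map (str i)) :
    ∃ f : Spec (CommRingCat.of A) ⟶ X, f ≫ p = Spec.map (CommRingCat.ofHom φ) ∧
      ∀ i, Spec.map (CommRingCat.ofHom (χ i)) ≫ f = Spec.map (inc i) ≫ z i := by
  obtain ⟨F, hF⟩ := pointsPi_surjective T X z
  have hFp : F ≫ p = Spec.map (CommRingCat.ofHom (RingHom.pi fun i => (str i).hom)) := by
    refine pointsPi_injective T (Spec (CommRingCat.of R)) (funext fun i => ?_)
    show Spec.map _ ≫ F ≫ p = Spec.map _ ≫ Spec.map _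
    rw [← Category.assoc, show Spec.map _ ≫ F = z i from congrFun hF i, hz, ← Spec.map_comp]
    rfl
  refine ⟨Spec.map j ≫ F, ?_, fun i => ?_⟩
  · rw [Category.assoc, hFp, ← Spec.map_comp]
    exact congrArg Spec.map (CommRingCat.hom_ext (RingHom.ext hstr))
  · rw [← Category.assoc, ← Spec.map_comp, hj, Spec.map_comp, Category.assoc]
    exact congrArg _ (congrFun hF i)

end Groth.Agent.AdPts23
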