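import Groth.Agent.Lib.AdPts23.PtPi
import Groth.Agent.Lib.AdPts23.Ring
import Groth.Prelude.Def_AdFn

/-!
# Points over the adeles
-/

set_option autoImplicit false
set_option linter.style.haveILetI false
set_option linter.unusedSectionVars false
set_option backward.isDefEq.respectTransparency.types false
set_option maxHeartbeats 400000
universe u

open CategoryTheory CategoryTheory.Limits AlgebraicGeometry Opposite

noncomputable section

namespace Groth.Agent.AdPts23

variable {k K : Type u} [Field k] [Field K] [Algebra k K] [AdFn.HasFinitePoles k K]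

theorem adele_joint (b : AdFn.AdeleRing k K) (hb : ∀ v, AdFn.AdeleRing.proj v b = 0) : b = 0 := Subtype.ext (funext hb)

theorem adele_finite (a : AdFn.AdeleRing k K) : {v | AdFn.AdeleRing.proj v a ∉ AdFn.Ov v}.Finite :=
  Filter.eventually_cofinite.1 a.2

variable (S : Set (FunFld.Place k K)) (G : Over (Spec (CommRingCat.of (AdFn.SInt S))))

/-- The restricted rings. -/
def Tsub (T : Set (FunFld.Place k K)) (v : FunFld.Place k K) : ValuationSubring (AdFn.Kv v) :=
  open Classical in if v ∈ T then ⊤ else AdFn.Ov v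

theorem toKv_mem_Tsub (T : Set (FunFld.Place k K)) (hST : S ⊆ T) (v : FunFld.Place k K) (r : AdFn.SInt S) :
    AdFn.SInt.toKv S v r ∈ Tsub T v := by
  unfold Tsub
  split_ifs with h
  · exact ValuationSubring.mem_top _
  · exact (AdFn.toKv_mem_Ov v r.1).2 (r.2 v fun h' => h (hST h'))

theorem exists_adelic_point [QuasiCompact G.hom] (T : Set (FunFld.Place k K)) (hT : T.Finite) (hST : S ⊆ T)
    (y : ∀ v, AdFn.specOf (AdFn.SInt.toKv S v) ⟶ G)
    (z : ∀ v (hv : v ∉ S), v ∉ T → (AdFn.specOf (AdFn.SInt.toOv S hv) ⟶ G))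
    (hz : ∀ v (hv : v ∉ S) (hvT : v ∉ T), AdFn.intResHom S hv ≫ z v hv hvT = y v) :
    ∃ f : AdFn.specOf (AdFn.SInt.toAd S) ⟶ G, ∀ v, AdFn.adProjSHom S v ≫ f = y v := by
  classical
  letI : ∀ v : FunFld.Place k K, Field (AdFn.Kv v) := fun v => inferInstance
  letI : ∀ v : FunFld.Place k K, CommRing (Tsub T v) := fun v => inferInstance
  haveI : ∀ v : FunFld.Place k K, IsLocalRing ↥(CommRingCat.of (Tsub T v)) := fun v => inferInstanceAs (IsLocalRing (Tsub T v))
  haveI : CompactSpace G.left := QuasiCompact.compactSpace_of_compactSpace G.hom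
  let str : ∀ v, AdFn.SInt S →+* Tsub T v := fun v =>
    (AdFn.SInt.toKv S v).codRestrict (Tsub T v).toSubring (toKv_mem_Tsub S T hST v)
  have hz' : ∀ v, ∃ w : Spec (CommRingCat.of (Tsub T v)) ⟶ G.left, w ≫ G.hom = Spec.map (CommRingCat.ofHom (str v)) ∧
      Spec.map (CommRingCat.ofHom (Tsub T v).subtype) ≫ w = (y v).left := fun v => by
    by_cases h : v ∈ T
    · let e : AdFn.Kv v →+* Tsub T v := (RingHom.id _).codRestrict (Tsub T v).toSubring fun a => by
        show a ∈ Tsub T v
        simp [Tsub, h]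
      refine ⟨Spec.map (CommRingCat.ofHom e) ≫ (y v).left, ?_, ?_⟩
      · rw [Category.assoc, Over.w (y v)]
        show _ ≫ Spec.map _ = _
        rw [← Spec.map_comp]
        exact congrArg Spec.map (CommRingCat.hom_ext (RingHom.ext fun r => Subtype.ext rfl))
      · rw [← Category.assoc, ← Spec.map_comp,
          show CommRingCat.ofHom e ≫ CommRingCat.ofHom (Tsub T v).subtype = 𝟙 _ from CommRingCat.hom_ext (RingHom.ext fun r => rfl),
          Spec.map_id, Category.id_comp]
    · have hv : v ∉ S := fun h' => h (hST h')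
      let e : AdFn.Ov v →+* Tsub T v := (AdFn.Ov v).subtype.codRestrict (Tsub T v).toSubring fun a => by
        show (a : AdFn.Kv v) ∈ Tsub T v
        simp [Tsub, h]
      refine ⟨Spec.map (CommRingCat.ofHom e) ≫ (z v hv h).left, ?_, ?_⟩
      · rw [Category.assoc, Over.w (z v hv h)]
        show _ ≫ Spec.map _ = _
        rw [← Spec.map_comp]
        exact congrArg Spec.map (CommRingCat.hom_ext (RingHom.ext fun r => Subtype.ext rfl))
      · rw [← Category.assoc, ← Spec.map_comp, ← hz v hv h]
        exact congrArg (fun q => Spec.map q ≫ (z v hv h).left) (CommRingCat.hom_ext (RingHom.ext fun r => rfl))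
  choose w hw1 hw2 using hz'
  let j : (Π v, Tsub T v) →+* AdFn.AdeleRing k K :=
    { toFun := fun a => ⟨fun v => (a v).1, Filter.eventually_cofinite.2 (hT.subset fun v hv => by
        by_contra h
        refine hv ?_
        have := (a v).2
        simpa [Tsub, h] using this)⟩
      map_one' := rfl
      map_mul' := fun _ _ => rfl
      map_zero' := rfl
      map_add' := fun _ _ => rfl }
  obtain ⟨f, hf, hfv⟩ := exists_glue (fun v => AdFn.AdeleRing.proj v) (AdFn.SInt.toAd S) G.hom
    (T := fun v => CommRingCat.of (Tsub T v)) (fun v => CommRingCat.ofHom (Tsub T v).subtype)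
    (fun v => CommRingCat.ofHom (str v)) (CommRingCat.ofHom j)
    (fun v => rfl) (fun r => Subtype.ext rfl) w hw1
  exact ⟨Over.homMk f hf, fun v => Over.OverMorphism.ext ((hfv v).trans (hw2 v))⟩

theorem adelic_ext [IsSeparated G.hom] (a b : AdFn.specOf (AdFn.SInt.toAd S) ⟶ G)
    (h : ∀ v, AdFn.adProjSHom S v ≫ a = AdFn.adProjSHom S v ≫ b) : a = b := by
  letI : ∀ v : FunFld.Place k K, Field (AdFn.Kv v) := fun v => inferInstance
  exact Over.OverMorphism.ext (point_ext (fun v => AdFn.AdeleRing.proj v) G.hom adele_joint a.left b.left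
    ((Over.w a).trans (Over.w b).symm) fun v => congrArg CommaMorphism.left (h v))

theorem adelic_integral (hS : S.Finite) [LocallyOfFiniteType G.hom] (a : AdFn.specOf (AdFn.SInt.toAd S) ⟶ G) :
    {v | ¬ ∃ (hv : v ∉ S) (z : AdFn.specOf (AdFn.SInt.toOv S hv) ⟶ G),
      AdFn.intResHom S hv ≫ z = AdFn.adProjSHom S v ≫ a}.Finite := by
  letI : ∀ v : FunFld.Place k K, Field (AdFn.Kv v) := fun v => inferInstance
  refine (exists_integral (fun v => AdFn.AdeleRing.proj v) (AdFn.SInt.toAd S) G.hom (fun v => AdFn.Ov v) S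
      (fun v hv => AdFn.SInt.toOv S hv) hS (fun v hv => RingHom.ext fun r => rfl) adele_finite a.left (Over.w a)).subset
      fun v hv => ?_
  rintro ⟨hvS, z, hz1, hz2⟩
  exact hv ⟨hvS, Over.homMk z hz1, Over.OverMorphism.ext hz2⟩

end Groth.Agent.AdPts23
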