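import Groth.Agent.Lib.AdPts23.Sec

/-!
# Points of degree zero classes
-/

set_option autoImplicit false
set_option linter.unusedSectionVars false
set_option maxHeartbeats 400000
universe u

open CategoryTheory CategoryTheory.Limits AlgebraicGeometry Opposite CategoryTheory.Abelian MonoidalCategory CartesianMonoidalCategory

noncomputable section

namespace Groth.Agent.AdPts23

variable (K : Precoverage Scheme.{u}) {S : Scheme.{u}} (F : BigSite.Ab K S)

theorem sec_resHU {T T' : Over S} (g : T' ⟶ T) (x : BigSite.HU K F 0 T) (m : Top T' ⟶ Top T) (hm : m.left = g.left) :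
    sec K F T' (HRes.resHU K F 0 g x) = F.obj.map m.op (sec K F T x) := by
  obtain ⟨φ, rfl⟩ := (Ext.mk₀_bijective _ _).2 x
  refine ((congrArg (sec K F T') (resHU_mk₀ K F g φ)).trans (AdH023.equiv₀_mk₀ _ Over.mkIdTerminal _)).trans ?_
  show (HRes.pullIso K F g).hom.hom.app _ (φ.hom.app _ ((HRes.pullConst K g.left _).inv.hom.app _ (one (J := QuotSh.J K T'.left) (Over.mk (𝟙 T'.left))))) = _
  refine (congrArg (fun t => (HRes.pullIso K F g).hom.hom.app _ t) ((congrArg (φ.hom.app _) (pullConst_one K g.left _)).trans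
    (value_eq _ Over.mkIdTerminal φ _))).trans ?_
  show F.obj.map _ (F.obj.map _ (F.obj.map _ (sec K F T (Ext.mk₀ φ)))) = _
  rw [← ConcreteCategory.comp_apply, ← Functor.map_comp, ← ConcreteCategory.comp_apply, ← Functor.map_comp]
  refine congrArg (fun q => F.obj.map q (sec K F T (Ext.mk₀ φ))) (Quiver.Hom.unop_inj (Over.OverMorphism.ext ?_))
  have h1 := Over.w (Over.mkIdTerminal.from ((Over.map g.left).obj (Over.mk (𝟙 T'.left))))
  simp at h1
  simp [hm, h1]

variable (G : Over S) [GrpObj G] [IsCommMonObj G] [(QuotSh.J K S).Subcanonical]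

/-- The object `Top T` is `T`. -/
def topIso (T : Over S) : Top T ≅ T := Over.isoMk (Iso.refl _)

/-- The point of a class. -/
def pt (T : Over S) : BigSite.HU K (CGrpSh.pts K G) 0 T ≃ (T ⟶ G) :=
  (sec K (CGrpSh.pts K G) T).toEquiv.trans ((Equiv.ulift.trans Additive.toMul).trans (Iso.homCongr (topIso T) (Iso.refl G)))

theorem pt_resHU {T T' : Over S} (g : T' ⟶ T) (x : BigSite.HU K (CGrpSh.pts K G) 0 T) :
    pt K G T' (HRes.resHU K (CGrpSh.pts K G) 0 g x) = g ≫ pt K G T x := by
  have h := sec_resHU K (CGrpSh.pts K G) g x ((topIso T').hom ≫ g ≫ (topIso T).inv) (by simp [topIso])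
  refine (congrArg (fun t => (topIso T').inv ≫ (t : (CGrpSh.pts K G).obj.obj (op (Top T'))).down.toMul ≫ 𝟙 G) h).trans ?_
  show (topIso T').inv ≫ (((topIso T').hom ≫ g ≫ (topIso T).inv) ≫ (sec K (CGrpSh.pts K G) T x).down.toMul) ≫ 𝟙 G =
    g ≫ (topIso T).inv ≫ (sec K (CGrpSh.pts K G) T x).down.toMul ≫ 𝟙 G
  simp

end Groth.Agent.AdPts23
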