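import Groth.Agent.Lib.AdPts23.Pt

/-!
# Families of restriction maps in degree zero
-/

set_option autoImplicit false
set_option maxHeartbeats 400000
universe u

open CategoryTheory AlgebraicGeometry

noncomputable section

namespace Groth.Agent.AdPts23

variable (K : Precoverage Scheme.{u}) {S : Scheme.{u}} (G : Over S) [GrpObj G] [IsCommMonObj G]
  [(QuotSh.J K S).Subcanonical]

theorem injective_pi {ι : Type*} {T : Over S} {T' : ι → Over S} (g : ∀ i, T' i ⟶ T)
    (h : ∀ a b : T ⟶ G, (∀ i, g i ≫ a = g i ≫ b) → a = b) :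
    Function.Injective (AddMonoidHom.pi fun i => HRes.resHU K (CGrpSh.pts K G) 0 (g i)) := fun x x' hx => by
  apply (pt K G T).injective
  refine h _ _ fun i => ?_
  rw [← pt_resHU, ← pt_resHU]
  exact congrArg (pt K G (T' i)) (congrFun hx i)

theorem mem_range_pi {ι : Type*} {T : Over S} {T' : ι → Over S} (g : ∀ i, T' i ⟶ T)
    (y : ∀ i, BigSite.HU K (CGrpSh.pts K G) 0 (T' i)) (f : T ⟶ G) (hf : ∀ i, g i ≫ f = pt K G (T' i) (y i)) :
    y ∈ Set.range (AddMonoidHom.pi fun i => HRes.resHU K (CGrpSh.pts K G) 0 (g i)) := by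
  refine ⟨(pt K G T).symm f, funext fun i => (pt K G (T' i)).injective ?_⟩
  show pt K G (T' i) (HRes.resHU K (CGrpSh.pts K G) 0 (g i) _) = _
  rw [pt_resHU, Equiv.apply_symm_apply, hf]

theorem mem_range_res {T T' : Over S} (g : T' ⟶ T) (w : BigSite.HU K (CGrpSh.pts K G) 0 T') (z : T ⟶ G)
    (hz : g ≫ z = pt K G T' w) : w ∈ (HRes.resHU K (CGrpSh.pts K G) 0 g).range := by
  refine ⟨(pt K G T).symm z, (pt K G T').injective ?_⟩
  rw [pt_resHU, Equiv.apply_symm_apply, hz]

theorem exists_of_mem_range {T T' : Over S} (g : T' ⟶ T) (w : BigSite.HU K (CGrpSh.pts K G) 0 T')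
    (h : w ∈ (HRes.resHU K (CGrpSh.pts K G) 0 g).range) : ∃ z : T ⟶ G, g ≫ z = pt K G T' w := by
  obtain ⟨x, rfl⟩ := h
  exact ⟨pt K G T x, (pt_resHU K G g x).symm⟩

end Groth.Agent.AdPts23
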