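import Groth.Agent.Lib.AdPts23.Main

/-!
# The degree zero local product of points
-/

set_option autoImplicit false
set_option linter.unusedSectionVars false
set_option backward.isDefEq.respectTransparency.types false
set_option maxHeartbeats 1000000
universe u

open CategoryTheory AlgebraicGeometry

noncomputable section

namespace Groth.Agent.AdPts23

variable {k K : Type u} [Field k] [Field K] [Algebra k K] [AdFn.HasFinitePoles k K]
  (S : Set (FunFld.Place k K)) (G : Over (Spec (CommRingCat.of (AdFn.SInt S)))) [GrpObj G] [IsCommMonObj G]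

theorem injective_locProdS [IsSeparated G.hom] :
    Function.Injective (AdFn.locProdS Scheme.fppfPrecoverage S (CGrpSh.pts Scheme.fppfPrecoverage G) 0) :=
  injective_pi Scheme.fppfPrecoverage G (AdFn.adProjSHom S) (adelic_ext S G)

theorem range_subset (hS : S.Finite) [LocallyOfFiniteType G.hom] :
    Set.range (AdFn.locProdS Scheme.fppfPrecoverage S (CGrpSh.pts Scheme.fppfPrecoverage G) 0) ⊆
      Set.range (fun y : AdFn.LocRP Scheme.fppfPrecoverage S (CGrpSh.pts Scheme.fppfPrecoverage G) 0 =>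
        (⇑y : (v : FunFld.Place k K) → AdFn.HLocS Scheme.fppfPrecoverage S (CGrpSh.pts Scheme.fppfPrecoverage G) 0 v)) := by
  rintro _ ⟨x, rfl⟩
  refine ⟨⟨fun v => AdFn.locProdS Scheme.fppfPrecoverage S (CGrpSh.pts Scheme.fppfPrecoverage G) 0 x v,
      Filter.eventually_cofinite.2 ?_⟩, rfl⟩
  refine (adelic_integral S G hS (pt Scheme.fppfPrecoverage G (AdFn.specOf (AdFn.SInt.toAd S)) x)).subset fun v hv => ?_
  rintro ⟨hvS, z, hz⟩
  exact hv (le_iSup (fun h : v ∉ S => (AdFn.intRes Scheme.fppfPrecoverage S (CGrpSh.pts Scheme.fppfPrecoverage G) 0 h).range) hvS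
    (mem_range_res Scheme.fppfPrecoverage G (AdFn.intResHom S hvS) _ z
      (hz.trans (pt_resHU Scheme.fppfPrecoverage G (AdFn.adProjSHom S v) x).symm)))

theorem subset_range (hS : S.Finite) [QuasiCompact G.hom] :
    Set.range (fun y : AdFn.LocRP Scheme.fppfPrecoverage S (CGrpSh.pts Scheme.fppfPrecoverage G) 0 =>
        (⇑y : (v : FunFld.Place k K) → AdFn.HLocS Scheme.fppfPrecoverage S (CGrpSh.pts Scheme.fppfPrecoverage G) 0 v)) ⊆
      Set.range (AdFn.locProdS Scheme.fppfPrecoverage S (CGrpSh.pts Scheme.fppfPrecoverage G) 0) := by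
  rintro _ ⟨y, rfl⟩
  have hy : {v | y.1 v ∉ AdFn.locSub Scheme.fppfPrecoverage S (CGrpSh.pts Scheme.fppfPrecoverage G) 0 v}.Finite :=
    Filter.eventually_cofinite.1 y.2
  have hmem : ∀ v (hv : v ∉ S), v ∉ S ∪ {v | y.1 v ∉ AdFn.locSub Scheme.fppfPrecoverage S (CGrpSh.pts Scheme.fppfPrecoverage G) 0 v} →
      ∃ z : AdFn.specOf (AdFn.SInt.toOv S hv) ⟶ G,
        AdFn.intResHom S hv ≫ z = pt Scheme.fppfPrecoverage G (AdFn.specOf (AdFn.SInt.toKv S v)) (y.1 v) := fun v hv hvT => by
    have h : y.1 v ∈ AdFn.locSub Scheme.fppfPrecoverage S (CGrpSh.pts Scheme.fppfPrecoverage G) 0 v :=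
      Classical.not_not.1 fun h => hvT (Or.inr h)
    rw [AdFn.locSub, iSup_pos hv] at h
    exact exists_of_mem_range Scheme.fppfPrecoverage G (AdFn.intResHom S hv) _ h
  choose z hz using hmem
  obtain ⟨f, hf⟩ := exists_adelic_point S G _ (hS.union hy) Set.subset_union_left
    (fun v => pt Scheme.fppfPrecoverage G (AdFn.specOf (AdFn.SInt.toKv S v)) (y.1 v)) z hz
  exact mem_range_pi Scheme.fppfPrecoverage G (AdFn.adProjSHom S) _ f hf

end Groth.Agent.AdPts23
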