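import Groth.Agent.Lib.AdH023.H0
import Groth.Agent.Lib.HResPull23.Basic
import Groth.Prelude.Def_CGrpSh

/-!
# Degree zero classes of sheaves of points and their restrictions
-/

set_option autoImplicit false
set_option linter.unusedSectionVars false
set_option maxHeartbeats 400000
universe u

open CategoryTheory CategoryTheory.Limits AlgebraicGeometry Opposite CategoryTheory.Abelian MonoidalCategory CartesianMonoidalCategory

noncomputable section

namespace Groth.Agent.AdPts23

theorem app_app {A B D : AddCommGrpCat.{u + 1}} (a : A ⟶ B) (b : B ⟶ D) (c : A ⟶ D) (h : a ≫ b = c) (x : A) :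
    b (a x) = c x := by rw [← h]; rfl

theorem map_pull_mk₀ {A : Type (u+2)} [Category.{u+1} A] [Abelian A] [HasExt.{u + 1} A] {B : Type (u+2)} [Category.{u+1} B]
    [Abelian B] [HasExt.{u + 1} B] (P : A ⥤ B) [P.Additive] [PreservesFiniteLimits P] [PreservesFiniteColimits P]
    {c F : A} {c' F' : B} (pc : c' ⟶ P.obj c) (φ : c ⟶ F) (i : P.obj F ⟶ F') :
    ((Ext.mk₀ pc).comp ((Ext.mk₀ φ).mapExactFunctor P) (zero_add 0)).comp (Ext.mk₀ i) (add_zero 0) =
      Ext.mk₀ ((pc ≫ P.map φ) ≫ i) := by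
  rw [Ext.mapExactFunctor_mk₀, Ext.mk₀_comp_mk₀, Ext.mk₀_comp_mk₀]

variable {C : Type (u + 1)} [Category.{u} C] {J : GrothendieckTopology C}
  [HasSheafify J AddCommGrpCat.{u + 1}]

/-- The section `1` of the constant sheaf. -/
def one (U : C) : ((constantSheaf J AddCommGrpCat.{u + 1}).obj (AddCommGrpCat.of (ULift.{u + 1} ℤ))).obj.obj (op U) :=
  (toSheafify J ((Functor.const _).obj (AddCommGrpCat.of (ULift.{u + 1} ℤ)))).app (op U) (ULift.up 1)

theorem map_one' {U V : C} (m : V ⟶ U) :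
    ((constantSheaf J AddCommGrpCat.{u + 1}).obj (AddCommGrpCat.of (ULift.{u + 1} ℤ))).obj.map m.op (one U) = one (J := J) V :=
  (ConcreteCategory.congr_hom ((toSheafify J ((Functor.const _).obj (AddCommGrpCat.of (ULift.{u + 1} ℤ)))).naturality m.op)
    (ULift.up 1)).symm

theorem value_eq [HasExt.{u + 1} (Sheaf J AddCommGrpCat.{u + 1})] (F : Sheaf J AddCommGrpCat.{u + 1}) {T : C} (hT : IsTerminal T)
    (φ : (constantSheaf J AddCommGrpCat.{u + 1}).obj (AddCommGrpCat.of (ULift.{u + 1} ℤ)) ⟶ F) (U : C) :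
    φ.hom.app (op U) (one U) = F.obj.map (hT.from U).op (Sheaf.H.equiv₀ F hT (Ext.mk₀ φ)) := by
  rw [AdH023.equiv₀_mk₀]
  refine Eq.trans ?_ (NatTrans.naturality_apply φ.hom (hT.from U).op _)
  exact congrArg (φ.hom.app (op U)) (map_one' (hT.from U)).symm

variable (K : Precoverage Scheme.{u}) {S : Scheme.{u}} (F : BigSite.Ab K S)

/-- The object underlying the terminal object over `T.left`. -/
abbrev Top (T : Over S) : Over S := (Over.map T.hom).obj (Over.mk (𝟙 T.left))

/-- The section of a class. -/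
def sec (T : Over S) : BigSite.HU K F 0 T ≃+ F.obj.obj (op (Top T)) :=
  Sheaf.H.equiv₀ ((BigSite.pullBig K T.hom AddCommGrpCat.{u + 1}).obj F) Over.mkIdTerminal

theorem pullConst_one {T T' : Scheme.{u}} (f : T' ⟶ T) (U : Over T') :
    (HRes.pullConst K f (AddCommGrpCat.of (ULift.{u + 1} ℤ))).inv.hom.app (op U) (one (J := QuotSh.J K T') U) =
      one (J := QuotSh.J K T) ((Over.map f).obj U) := by
  have h := HResPull23.toSheafify_pullConst_inv K f (AddCommGrpCat.of (ULift.{u + 1} ℤ)) (op U)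
  exact app_app _ _ _ h _

theorem resHU_mk₀ {T T' : Over S} (g : T' ⟶ T)
    (φ : (constantSheaf (QuotSh.J K T.left) AddCommGrpCat.{u + 1}).obj (AddCommGrpCat.of (ULift.{u + 1} ℤ)) ⟶
      (BigSite.pullBig K T.hom AddCommGrpCat.{u + 1}).obj F) :
    HRes.resHU K F 0 g (Ext.mk₀ φ) =
      Ext.mk₀ (((HRes.pullConst K g.left (AddCommGrpCat.of (ULift.{u + 1} ℤ))).inv ≫
        (BigSite.pullBig K g.left AddCommGrpCat.{u + 1}).map φ) ≫ (HRes.pullIso K F g).hom) :=
  map_pull_mk₀ (BigSite.pullBig K g.left AddCommGrpCat.{u + 1}) _ φ _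

end Groth.Agent.AdPts23
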